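import Cfsg.Agent.Lib.DGrp.End
import Cfsg.Agent.Lib.ZStar.Main
import Cfsg.Agent.Lib.TwoFusion.InvCount
import Cfsg.Agent.Lib.Transfer.Control
import Cfsg.Agent.S3224

/-! Groups in which a D-group is the centralizer of its central involutions. -/

set_option autoImplicit false
set_option linter.unusedSectionVars false

namespace H41

open Subgroup Cfsg

variable {G : Type*} [Group G] [Finite G]

/-- `G` is `PSL₂(q)` or `PGL₂(q)` modulo a normal subgroup of odd or twice odd order. -/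
def PC (G : Type*) [Group G] : Prop := ∃ (N : Subgroup G) (_ : N.Normal),
  (Odd (Nat.card N) ∨ ∃ m : ℕ, Odd m ∧ Nat.card N = 2 * m) ∧ PL (G ⧸ N)

theorem solvable_of_quot (N : Subgroup G) [N.Normal] (hN : Group.IsSolvable N)
    (h : Group.IsSolvable (G ⧸ N)) : Group.IsSolvable G :=
  Group.isSolvable_of_ker_le_range N.subtype (QuotientGroup.mk' N) (by simp)

theorem solvable_of_core (h : Group.IsSolvable (G ⧸ oddCore G)) : Group.IsSolvable G :=
  solvable_of_quot _ (Cfsg.Agent.S0205.result H1.odd_card_oddCore) h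

theorem notMem_core {t : G} (h1 : t ≠ 1) (h : t * t = 1) : t ∉ oddCore G := fun e => by
  have := H1.coprime_orderOf_of_mem_pPrimeCore e
  rw [orderOf_two_of_mul_self h1 h] at this
  exact absurd this (by decide)

theorem lift_comm {Y : Type*} [Group Y] (f : G →* Y) (hf : Function.Surjective f)
    (hk : Odd (Nat.card f.ker)) {j : G} (hj : orderOf j = 2) {y : Y} (h : y * f j = f j * y) :
    ∃ x, x * j = j * x ∧ f x = y := by
  have := H2.map_centralizer_of_surjective (A := zpowers j) f hf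
    (by rw [Nat.card_zpowers, hj]; exact Nat.coprime_two_left.2 hk) (Or.inl inferInstance)
  rw [MonoidHom.map_zpowers, zpowers_eq_closure, zpowers_eq_closure, centralizer_closure,
    centralizer_closure] at this
  obtain ⟨x, hx, e⟩ : y ∈ _ := this ▸ mem_centralizer_singleton_iff.2 h
  exact ⟨x, mem_centralizer_singleton_iff.1 hx, e⟩

theorem exists_quot {z : G} (hz : IsIsolatedInvolution z) : ∃ (N : Subgroup G) (_ : N.Normal),
    (∃ m : ℕ, Odd m ∧ Nat.card N = 2 * m) ∧ pPrimeCore 2 (G ⧸ N) = ⊥ ∧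
      (Group.IsSolvable (G ⧸ N) → Group.IsSolvable G) ∧ oddCore G ≤ N ∧ z ∈ N ∧ ∀ x ∈ N, x ∈ oddCore G ∨ x * z ∈ oddCore G := by
  let O := oddCore G
  have hO : Odd (Nat.card O) := H1.odd_card_oddCore
  have hc : (z : G ⧸ O) ∈ center (G ⧸ O) := mem_center_iff.2 fun g => by
    obtain ⟨g, rfl⟩ := QuotientGroup.mk_surjective g
    have := (QuotientGroup.eq_one_iff _).2 (Isolated.commutator_mem hz g)
    simp only [QuotientGroup.mk_mul, QuotientGroup.mk_inv, mul_inv_eq_iff_eq_mul, one_mul] at this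
    exact this.symm
  have ho : orderOf (z : G ⧸ O) = 2 := orderOf_mk_eq_two hO.not_two_dvd_nat hz.1
  have hn := normal_zpowers_of_mem_center hc
  let f := (QuotientGroup.mk' (zpowers (z : G ⧸ O))).comp (QuotientGroup.mk' O)
  have hf : Function.Surjective f :=
    (QuotientGroup.mk'_surjective _).comp (QuotientGroup.mk'_surjective _)
  have hk : f.ker = (zpowers (z : G ⧸ O)).comap (QuotientGroup.mk' O) := by
    rw [← MonoidHom.comap_ker, QuotientGroup.ker_mk']
  have hle : O ≤ f.ker := fun x hx => by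
    rw [hk, mem_comap, QuotientGroup.mk'_apply, (QuotientGroup.eq_one_iff _).2 hx]; exact one_mem _
  have hcard : Nat.card f.ker = 2 * Nat.card O := by
    rw [hk, H1.card_comap_of_surjective (QuotientGroup.mk'_surjective _), Nat.card_zpowers, ho,
      QuotientGroup.ker_mk']
  refine ⟨f.ker, inferInstance, ⟨_, hO, hcard⟩, ?_, ?_, hle, by
    rw [hk]; exact mem_zpowers _, fun x hx => ?_⟩
  · have := H29.core_eq_bot_of_central H1.pPrimeCore_quotient_pPrimeCore
      (QuotientGroup.mk' (zpowers (z : G ⧸ O))) (QuotientGroup.mk'_surjective _)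
      (by rw [QuotientGroup.ker_mk']; exact zpowers_le_of_mem hc)
      (by rw [QuotientGroup.ker_mk']; exact IsPGroup.of_card (n := 1) (by
        rw [Nat.card_zpowers, ho]; rfl))
    rw [← H1.comap_pPrimeCore_equiv (QuotientGroup.quotientKerEquivOfSurjective f hf), this]
    exact (MonoidHom.ker_eq_bot_iff _).2 (MulEquiv.injective _)
  · exact fun _ => solvable_of_core (solvable_of_quot (zpowers (z : G ⧸ O)) inferInstance
      (Group.isSolvable_of_surjective (QuotientGroup.quotientKerEquivOfSurjective f hf).surjective))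
  · rw [hk, mem_comap, H73.mem_zpowers_of_mul_self (mul_self_of_orderOf_two ho)] at hx
    refine hx.imp (QuotientGroup.eq_one_iff _).1 fun e => (QuotientGroup.eq_one_iff _).1 ?_
    rw [QuotientGroup.mk_mul, ← QuotientGroup.mk'_apply, e, mul_self_of_orderOf_two ho]

/-- `H` is a non-elementary D-group over `A` which is the centralizer of the involutions of `A`. -/
structure DG (H A : Subgroup G) : Prop where
  le : A ≤ H
  sq : ∀ x ∈ H, x ∉ A → x * x = 1
  out : ∃ t ∈ H, t ∉ A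
  ne : ∃ a ∈ A, a * a ≠ 1
  cent : ∀ e ∈ A, orderOf e = 2 → centralizer {e} = H

namespace DG

variable {H A : Subgroup G} (h : DG H A)
include h

omit h in
theorem inv' (le : A ≤ H) (sq : ∀ x ∈ H, x ∉ A → x * x = 1) {x a : G} (hx : x ∈ H) (hA : x ∉ A)
    (ha : a ∈ A) : x * a * x⁻¹ = a⁻¹ := by
  have := sq _ (mul_mem hx (le ha)) (by rwa [mul_mem_cancel_right ha])
  rw [inv_eq_of_mul_self (sq x hx hA), eq_inv_iff_mul_eq_one, mul_assoc (x * a), this]

theorem inv {x a : G} (hx : x ∈ H) (hA : x ∉ A) (ha : a ∈ A) : x * a * x⁻¹ = a⁻¹ :=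
  inv' h.le h.sq hx hA ha

theorem comm {a b : G} (ha : a ∈ A) (hb : b ∈ A) : a * b = b * a :=
  let ⟨_, h1, h2⟩ := h.out
  H73.commute_of_inverts (fun _ hn => h.inv h1 h2 hn) ha hb

theorem mem_of_comm {x a : G} (hx : x ∈ H) (ha : a ∈ H) (h1 : a * a ≠ 1) (hc : x * a = a * x) :
    x ∈ A := by
  by_contra hA
  have := h.inv hx hA (a := a) (by by_contra e; exact h1 (h.sq a ha e))
  rw [hc, mul_inv_cancel_right, eq_inv_iff_mul_eq_one] at this
  exact h1 this

theorem mul_mem' {x y : G} (hx : x ∈ H) (hy : y ∈ H) (h1 : x ∉ A) (h2 : y ∉ A) : x * y ∈ A := by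
  obtain ⟨a, ha, h3⟩ := h.ne
  refine h.mem_of_comm (mul_mem hx hy) (h.le ha) h3 (mul_inv_eq_iff_eq_mul.1 ?_)
  rw [show x * y * a * (x * y)⁻¹ = x * (y * a * y⁻¹) * x⁻¹ by group, h.inv hy h2 ha,
    h.inv hx h1 (inv_mem ha), inv_inv]

theorem relIndex : A.relIndex H = 2 := by
  obtain ⟨t, h1, h2⟩ := h.out
  refine index_eq_two_iff.2 ⟨⟨t, h1⟩, fun b => ?_⟩
  by_cases e : (b : G) ∈ A
  · exact Or.inr ⟨e, fun e' => h2 ((mul_mem_cancel_left e).1 e')⟩
  · exact Or.inl ⟨h.mul_mem' b.2 h1 e h2, e⟩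

theorem mem_iff {e x : G} (he : e ∈ A) (ho : orderOf e = 2) : x ∈ H ↔ x * e = e * x := by
  rw [← h.cent e he ho, mem_centralizer_singleton_iff]

theorem conj_mem {e g : G} (he : e ∈ A) (ho : orderOf e = 2) (hg : g * e * g⁻¹ ∈ A) {x : G}
    (hx : x ∈ A) : g * x * g⁻¹ ∈ A := by
  have k : ∀ y ∈ H, g * y * g⁻¹ ∈ H := fun y hy =>
    (h.mem_iff hg ((orderOf_conj g e).trans ho)).2 (by
      rw [conj_mul, conj_mul, (h.mem_iff he ho).1 hy])
  obtain ⟨a, ha, h3⟩ := h.ne
  exact h.mem_of_comm (k x (h.le hx)) (k a (h.le ha)) (by simpa [conj_mul] using h3)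
    (by rw [conj_mul, conj_mul, h.comm hx ha])

omit h in
theorem exists_max {t : G} (ht : t ∈ H) (h2 : t * t = 1) : ∃ C ≤ H, t ∈ C ∧ IsPGroup 2 C ∧
    ∀ n ∈ H, ∀ k : ℕ, n ^ 2 ^ k = 1 → (n ∈ normalizer (C : Set G) ∨
      C ≤ normalizer (zpowers n : Set G)) → n ∈ C := by
  obtain ⟨P, hP⟩ := (H9.isPGroup_zpowers_of_mul_self (x := (⟨t, ht⟩ : H))
    (Subtype.ext h2)).exists_le_sylow
  have hC := P.isPGroup'.map H.subtype
  refine ⟨_, map_subtype_le _, ⟨_, hP (mem_zpowers _), rfl⟩, hC, fun n hn k hk hN => ?_⟩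
  have h3 : IsPGroup 2 ↥((P : Subgroup H).map H.subtype ⊔ zpowers n) := by
    rcases hN with hN | hN
    · exact hC.to_sup_of_normal_left' (H9.isPGroup_zpowers_of_pow hk) (zpowers_le_of_mem hN)
    · exact hC.to_sup_of_normal_right' (H9.isPGroup_zpowers_of_pow hk) hN
  have := P.is_maximal' (h3.comap_subtype (K := H)) (map_le_iff_le_comap.1 le_sup_left)
  exact ⟨⟨n, hn⟩, this ▸ (mem_sup_right (mem_zpowers n) : n ∈ _), rfl⟩

theorem conj_mem_two {e₁ e₂ g : G} (h1 : e₁ ∈ A) (h2 : e₂ ∈ A) (o1 : orderOf e₁ = 2)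
    (o2 : orderOf e₂ = 2) (hne : e₁ ≠ e₂) (g1 : g * e₁ * g⁻¹ ∈ H) (g2 : g * e₂ * g⁻¹ ∈ H) {x : G}
    (hx : x ∈ A) : g * x * g⁻¹ ∈ A := by
  by_cases a1 : g * e₁ * g⁻¹ ∈ A
  · exact h.conj_mem h1 o1 a1 hx
  by_cases a2 : g * e₂ * g⁻¹ ∈ A
  · exact h.conj_mem h2 o2 a2 hx
  have s2 := mul_self_of_orderOf_two o2
  exact h.conj_mem (mul_mem h1 h2) (orderOf_two_of_mul_self
    (fun e => hne ((eq_inv_of_mul_eq_one_left e).trans (inv_eq_of_mul_self s2)))
    (mul_self_mul (mul_self_of_orderOf_two o1) s2 (h.comm h1 h2)))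
    (by rw [← conj_mul]; exact h.mul_mem' g1 g2 a1 a2) hx

theorem closed {e₁ e₂ : G} (h1 : e₁ ∈ A) (h2 : e₂ ∈ A) (o1 : orderOf e₁ = 2)
    (o2 : orderOf e₂ = 2) (hne : e₁ ≠ e₂) {g x : G} (hx : x ∈ A) (hg : g * x * g⁻¹ ∈ H) :
    g * x * g⁻¹ ∈ A := by
  by_contra hA
  have x1 : x ≠ 1 := by rintro rfl; exact hA (by simp)
  have ho := orderOf_two_of_mul_self x1 (by simpa [conj_mul] using h.sq _ hg hA)
  have k : ∀ e ∈ A, orderOf e = 2 → g⁻¹ * e * g⁻¹⁻¹ ∈ H := fun e he oe =>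
    (h.mem_iff hx ho).2 (by
      have := (h.mem_iff he oe).1 hg
      calc g⁻¹ * e * g⁻¹⁻¹ * x = g⁻¹ * (e * (g * x * g⁻¹)) * g := by group
        _ = _ := by rw [← this]; group)
  exact hA ((mem_normalizer_iff.1 ((Subgroup.inv_mem_iff _).1 (mem_normalizer_fintype fun y hy =>
    h.conj_mem_two h1 h2 o1 o2 hne (k _ h1 o1) (k _ h2 o2) hy)) _).1 hx)

theorem exists_sylow {t : G} (ht : t ∈ H) (htA : t ∉ A) {e : G} (he : e ∈ A) (o : orderOf e = 2)
    (hk : ∀ C ≤ H, (∀ n ∈ A, ∀ k : ℕ, n ^ 2 ^ k = 1 → n ∈ C) → ∀ n ∈ normalizer (C : Set G),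
      n * e * n⁻¹ ∈ A) : ∃ S : Sylow 2 G, (S : Subgroup G) ≤ H ∧ t ∈ S := by
  obtain ⟨C, hC, tC, pC, hm⟩ := exists_max ht (h.sq t ht htA)
  have hA : ∀ n ∈ A, ∀ k : ℕ, n ^ 2 ^ k = 1 → n ∈ C := fun n hn k hk =>
    hm n (h.le hn) k hk (Or.inr fun c hc => mem_normalizer_fintype fun y hy => by
      have hy' := zpowers_le_of_mem hn hy
      by_cases e : c ∈ A
      · rwa [h.comm e hy', mul_inv_cancel_right]
      · rw [h.inv (hC hc) e hy']; exact inv_mem hy)
  obtain ⟨S, hS⟩ := H73.exists_sylow_eq_of_normalizer_le pC fun n hn h2 => by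
    obtain ⟨k, hk'⟩ := pC ⟨_, h2⟩
    refine hm n ?_ (k + 1) (by rw [pow_succ', pow_mul]; exact congrArg Subtype.val hk') (Or.inl hn)
    have a1 := hk C hC hA n hn
    have s1 := mul_self_of_orderOf_two o
    by_cases e1 : e * (n * e * n⁻¹) = 1
    · refine (h.mem_iff he o).2 (mul_inv_eq_iff_eq_mul.1 ?_)
      rw [eq_inv_of_mul_eq_one_right e1, inv_eq_of_mul_self s1]
    · refine (h.mem_iff (mul_mem he a1) (orderOf_two_of_mul_self e1
        (mul_self_mul s1 (conj_mul_self s1 n) (h.comm he a1)))).2 (mul_inv_eq_iff_eq_mul.1 ?_)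
      have := (h.mem_iff he o).1 (hC h2)
      calc n * (e * (n * e * n⁻¹)) * n⁻¹ = n * e * n⁻¹ * (n ^ 2 * e * (n ^ 2)⁻¹) := by group
        _ = _ := by rw [this, mul_inv_cancel_right, h.comm he a1]
  exact ⟨S, hS ▸ hC, hS.ge tC⟩

open Classical in
theorem pc_two (hns : ¬ Group.IsSolvable G) {e₁ e₂ : G} (h1 : e₁ ∈ A) (h2 : e₂ ∈ A)
    (o1 : orderOf e₁ = 2) (o2 : orderOf e₂ = 2) (hne : e₁ ≠ e₂) : PC G := by
  obtain ⟨t, ht, htA⟩ := h.out
  obtain ⟨S, hS, tS⟩ := h.exists_sylow ht htA h1 o1 fun C hC hA n hn =>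
    h.conj_mem_two h1 h2 o1 o2 hne
      (hC ((mem_normalizer_iff.1 hn _).1 (hA _ h1 1 (by rw [pow_one, ← o1, pow_orderOf_eq_one]))))
      (hC ((mem_normalizer_iff.1 hn _).1 (hA _ h2 1 (by rw [pow_one, ← o2, pow_orderOf_eq_one])))) h1
  have hodd : Odd H.index := (H73.odd_index_sylow S).of_dvd_nat (index_dvd_of_le hS)
  let V := MonoidHom.transfer (H73.signHom (A.subgroupOf H) h.relIndex)
  have t2 := h.sq t ht htA
  have ot := orderOf_two_of_mul_self (fun e : t = 1 => htA (e ▸ one_mem A)) t2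
  have Vt : V t = -1 := H73.transfer_eq_neg_one H hodd _ t fun g k hk k0 k2 _ => by
    rw [ot] at k2
    obtain rfl | rfl := (Nat.dvd_prime Nat.prime_two).1 k2
    · rw [pow_one (-1 : ℤˣ)]
      refine H73.signHom_of_notMem _ fun e => htA ?_
      simpa [mul_assoc] using h.closed h1 h2 o1 o2 hne (g := g) e (by simpa [mul_assoc])
    · rw [neg_one_sq]
      exact H73.signHom_of_mem _ (by simp [mem_subgroupOf, pow_two, t2])
  have VA : ∀ a ∈ A, a ∈ V.ker := fun a ha => by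
    have := H.fintypeQuotientOfFiniteIndex
    have : Fintype (Quotient (MulAction.orbitRel (zpowers a) (G ⧸ H))) := Fintype.ofFinite _
    rw [MonoidHom.mem_ker, MonoidHom.transfer_eq_prod_quotient_orbitRel_zpowers_quot]
    refine Finset.prod_eq_one fun q _ => H73.signHom_of_mem _ ?_
    simpa [mem_subgroupOf] using h.closed h1 h2 o1 o2 hne (g := q.out.out⁻¹) (pow_mem ha _)
      (by simpa using QuotientGroup.out_conj_pow_minimalPeriod_mem H a q.out)
  have tV : t ∉ V.ker := fun e => absurd (Vt.symm.trans e) (by decide)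
  have AV : ∀ x ∈ H, x ∈ V.ker → x ∈ A := fun x hx hV => by
    by_contra e
    exact tV ((mul_mem_cancel_left hV).1 (VA _ (h.mul_mem' hx ht e htA)))
  have hAC : H32.AC V.ker := fun u x y ou hx hy => by
    have ou' : orderOf (u : G) = 2 := (Subgroup.orderOf_coe u).trans ou
    obtain ⟨s, hs, g, hg⟩ := exists_isConj_mem_sylow S (t := (u : G)) (k := 1)
      (by rw [pow_one, ← ou', pow_orderOf_eq_one])
    obtain rfl : (g : G) * u * (g : G)⁻¹ = s := mul_inv_eq_iff_eq_mul.2 hg.eq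
    have k : ∀ x : V.ker, x * u = u * x → (g : G) * x * (g : G)⁻¹ ∈ A := fun x hx =>
      AV _ ((h.mem_iff (AV _ (hS hs) (Normal.conj_mem inferInstance _ u.2 _))
        ((orderOf_conj _ _).trans ou')).2 (by
          rw [conj_mul, conj_mul, ← coe_mul, hx, coe_mul])) (Normal.conj_mem inferInstance _ x.2 _)
    simpa [conj_mul, Subtype.ext_iff] using h.comm (k x hx) (k y hy)
  obtain ⟨hsq, hPL⟩ := pl_of_ac hAC fun _ => hns (Group.isSolvable_of_ker_le_range V.ker.subtype V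
    (by simp))
  have hS2 : ∀ x ∈ S, x * x = 1 := fun x hx => by
    by_cases e : x ∈ A
    · obtain ⟨k, hk⟩ := S.isPGroup' ⟨x, hx⟩
      exact congrArg Subtype.val (hsq ⟨x, VA x e⟩ k (Subtype.ext (Subtype.ext_iff.1 hk :)))
    · exact h.sq x (hS hx) e
  have hc : IsMulCommutative S := ⟨⟨fun a b => Subtype.ext
    (H73.commute_of_inverts (t := 1) (fun n hn => by
      rw [inv_eq_of_mul_self (hS2 n hn)]; simp) a.2 b.2)⟩⟩
  obtain ⟨z, ⟨zS, zc⟩, zV⟩ : ∃ z ∈ (S : Subgroup G) ⊓ centralizer (normalizer (S : Set G) : Subgroup G),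
      z ∉ V.ker := by
    by_contra! e
    have := H4.commutator_sup_centralizer_of_hall hc le_normalizer le_rfl
      (H1.coprime_card_of_isPGroup_of_coprime S.isPGroup' (Nat.Coprime.symm
        ((Nat.Prime.coprime_iff_not_dvd Nat.prime_two).2 (H4.not_dvd_relIndex_sylow S le_normalizer))))
    exact tV ((this.symm.le.trans (sup_le ((commutator_mono le_top le_top).trans
      (Abelianization.commutator_subset_ker V)) e)) tS)
  have z1 : z ≠ 1 := fun e => zV (e ▸ one_mem _)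
  obtain ⟨N, _, hN, hO, -, hle, zN, hm⟩ := exists_quot (isolated_of_sylow S
    (orderOf_two_of_mul_self z1 (hS2 z zS)) fun g hg => by
      obtain ⟨n, hn, e⟩ := H4.normalizer_controls_fusion_of_isMulCommutative S z zS g hg
      rw [← e, zc n hn, mul_inv_cancel_right])
  have hi := H73.index_ker_eq_two V Vt
  have OV : oddCore G ≤ V.ker := fun x hx => mem_of_relIndex_two (N := ⊤) (by simpa) trivial
    (Nat.coprime_two_right.1 (H1.coprime_orderOf_of_mem_pPrimeCore hx))
  refine ⟨N, _, Or.inr hN, hPL ((QuotientGroup.mk' N).comp V.ker.subtype) (fun y => ?_) ?_ hO⟩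
  · obtain ⟨y, rfl⟩ := QuotientGroup.mk_surjective y
    by_cases e : y ∈ V.ker
    · exact ⟨⟨y, e⟩, rfl⟩
    · exact ⟨⟨y * z, (mul_mem_iff_of_index_two hi).2 (iff_of_false e zV)⟩,
        (QuotientGroup.eq.2 (by simpa using zN))⟩
  · refine H1.odd_card_oddCore.of_dvd_nat ((card_map_of_injective V.ker.subtype_injective).symm.dvd.trans
      (card_dvd_of_le ?_))
    rintro _ ⟨x, hx, rfl⟩
    exact (hm x ((QuotientGroup.eq_one_iff _).1 hx)).resolve_right fun e =>
      zV ((mul_mem_cancel_left x.2).1 (OV e))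

theorem pc_of_d2 (hns : ¬ Group.IsSolvable G) (hD : H29.D2 G) {j : G} (hj : j ∈ A)
    (oj : orderOf j = 2) (hu : ∀ e ∈ A, e * e = 1 → e = 1 ∨ e = j) : PC G := by
  have hO : Odd (Nat.card (oddCore G)) := H1.odd_card_oddCore
  have k : ∀ y : G ⧸ oddCore G, y * j = j * y → ∃ x ∈ H, (x : G ⧸ oddCore G) = y := fun y hy =>
    let ⟨x, h1, h2⟩ := lift_comm _ (QuotientGroup.mk'_surjective _)
      (by rwa [QuotientGroup.ker_mk']) oj hy
    ⟨x, (h.mem_iff hj oj).2 h1, h2⟩
  have k4 : ∀ x : G, x * x = 1 → (x : G ⧸ oddCore G) ^ 4 = 1 := fun x hx => by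
    rw [show 4 = 2 * 2 from rfl, pow_mul, pow_two (x : G ⧸ oddCore G), ← QuotientGroup.mk_mul, hx]
    simp
  refine ⟨_, inferInstance, Or.inl hO, pl_of_d2 (hD.quotient _ hO) H1.pPrimeCore_quotient_pPrimeCore
    (fun e => hns (solvable_of_core e)) (orderOf_mk_eq_two hO.not_two_dvd_nat oj) (fun y hy => ?_)
    fun x b hx hb hc x3 b2 => ?_⟩
  · obtain ⟨x, hx, rfl⟩ := k y hy
    obtain ⟨t, ht, htA⟩ := h.out
    by_cases e : x ∈ A
    · exact ⟨_, _, k4 _ (h.sq _ (mul_mem hx ht) (by rwa [mul_mem_cancel_left e])),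
        k4 _ (h.sq t ht htA), by rw [← QuotientGroup.mk_mul, mul_assoc, h.sq t ht htA, mul_one]⟩
    · exact ⟨_, 1, k4 _ (h.sq x hx e), one_pow _, (mul_one _).symm⟩
  · obtain ⟨x, hx', rfl⟩ := k x hx
    obtain ⟨b, hb', rfl⟩ := k b hb
    have k3 : (x : G ⧸ oddCore G) * x = 1 → (x : G ⧸ oddCore G) = 1 := fun e => by
      rwa [pow_succ, pow_two, e, one_mul] at x3
    by_cases e : b ∈ A
    · obtain ⟨m, hm⟩ := Nat.coprime_two_right.1 (H1.coprime_orderOf_of_mem_pPrimeCore
        ((QuotientGroup.eq_one_iff (b * b)).1 b2))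
      have : ((b ^ (2 * m + 1) : G) : G ⧸ oddCore G) = b := by
        rw [QuotientGroup.mk_pow, pow_succ, pow_mul, pow_two, b2, one_pow, one_mul]
      rw [← this]
      exact Or.inr ((hu _ (pow_mem e _) (by
        rw [← (Commute.refl b).mul_pow, ← hm, pow_orderOf_eq_one])).imp (congrArg _) (congrArg _))
    · by_cases e' : x ∈ A
      · have := congrArg (QuotientGroup.mk' (oddCore G)) (h.inv hb' e e')
        simp only [map_mul, map_inv, QuotientGroup.mk'_apply] at this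
        rw [hc, mul_inv_cancel_right, eq_inv_iff_mul_eq_one] at this
        exact Or.inl (k3 this)
      · exact Or.inl (k3 (congrArg (QuotientGroup.mk' (oddCore G)) (h.sq x hx' e')))

theorem pc_of_qd (hns : ¬ Group.IsSolvable G) {j : G} (hj : j ∈ A) (oj : orderOf j = 2)
    (hu : ∀ e ∈ A, e * e = 1 → e = 1 ∨ e = j) (h4 : ∀ x ∈ H, orderOf x ≠ 4) {S : Sylow 2 G}
    (jS : j ∈ S) (hS : IsQuasiDihedral (S : Subgroup G)) : PC G := by
  obtain ⟨k, x, y, q⟩ := exists_qd hS
  have jj := mul_self_of_orderOf_two oj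
  have j1 := ne_one_of_orderOf_two oj
  have hzj : ¬ IsConj q.z j := fun e => by
    obtain ⟨g, rfl⟩ := isConj_iff.1 e
    exact h4 _ ((h.mem_iff hj oj).2 (by rw [conj_mul, conj_mul, q.z_comm q.w_mem]))
      ((orderOf_conj g _).trans q.orderOf_w)
  have jz : j ≠ q.z := fun e => hzj (e ▸ IsConj.refl _)
  obtain ⟨i, hi⟩ := ((q.invol jS jj).resolve_left j1).resolve_left jz
  have hz : IsIsolatedInvolution q.z := isolated_of_sylow S q.orderOf_z fun g hg => by
    rcases q.invol hg (conj_mul_self q.zz g) with e | e | ⟨i', e⟩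
    · exact (q.z_ne_one (by simpa using e)).elim
    · exact e
    · exact (hzj ((isConj_iff.2 ⟨g, e⟩).trans ((q.isConj_even i').trans
        (hi ▸ (q.isConj_even i).symm)))).elim
  obtain ⟨N, _, hN, hO, hs, hle, zN, hm⟩ := exists_quot hz
  have zH := (h.mem_iff hj oj).2 (q.z_comm jS).symm
  have zA : q.z ∉ A := fun e => ((hu _ e q.zz).elim q.z_ne_one jz.symm)
  let π := QuotientGroup.mk' (oddCore G)
  have zc : ∀ g, π q.z * π g = π g * π q.z := fun g => by
    have := (QuotientGroup.eq_one_iff _).2 (Isolated.commutator_mem hz g)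
    simp only [QuotientGroup.mk_mul, QuotientGroup.mk_inv, mul_inv_eq_iff_eq_mul, one_mul] at this
    exact this
  have k4 : ∀ y : G ⧸ N, y * j = j * y → y ^ 4 = 1 := fun y hy => by
    obtain ⟨g, rfl⟩ := QuotientGroup.mk_surjective y
    have h1 : π g * π j * (π g)⁻¹ = π j ∨ π g * π j * (π g)⁻¹ = π j * π q.z := by
      have pj : π j * π j = 1 := by rw [← map_mul, jj, map_one]
      have pz : π q.z * π q.z = 1 := by rw [← map_mul, q.zz, map_one]
      refine (hm (g * j * g⁻¹ * j) ((QuotientGroup.eq_one_iff _).1 (by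
        simp only [QuotientGroup.mk_mul, QuotientGroup.mk_inv, hy]
        rw [mul_inv_cancel_right, ← QuotientGroup.mk_mul, jj]; rfl))).imp (fun e => ?_) fun e => ?_
      all_goals
        have := (QuotientGroup.eq_one_iff _).2 e
        change π _ = 1 at this
        simp only [map_mul, map_inv] at this
      · exact (eq_inv_of_mul_eq_one_left this).trans (inv_eq_of_mul_self pj)
      · rw [mul_assoc] at this
        rw [eq_inv_of_mul_eq_one_left this, mul_inv_rev, inv_eq_of_mul_self pj,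
          inv_eq_of_mul_self pz, zc]
    have h2 : π (g * g) * π j = π j * π (g * g) := by
      refine mul_inv_eq_iff_eq_mul.1 ((show _ = π g * (π g * π j * (π g)⁻¹) * (π g)⁻¹ by
        rw [map_mul]; group).trans ?_)
      rcases h1 with e | e
      · rw [e, e]
      · rw [e, ← conj_mul, e, ← zc g, mul_inv_cancel_right, mul_assoc, ← map_mul, q.zz, map_one,
          mul_one]
    obtain ⟨c, hc, e⟩ := lift_comm π (QuotientGroup.mk'_surjective _)
      (by rw [QuotientGroup.ker_mk']; exact H1.odd_card_oddCore) oj h2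
    have h3 : π (c * c) = 1 := by
      by_cases e' : c ∈ A
      · have := congrArg π (h.inv zH zA e')
        rwa [map_mul, map_mul, map_inv, map_inv, zc, mul_inv_cancel_right, eq_inv_iff_mul_eq_one,
          ← map_mul] at this
      · rw [h.sq c ((h.mem_iff hj oj).2 hc) e', map_one]
    rw [map_mul, e, ← map_mul] at h3
    rw [← QuotientGroup.mk_pow, QuotientGroup.eq_one_iff, show g ^ 4 = g * g * (g * g) by
      rw [← pow_two, ← pow_two, ← pow_mul]]
    exact hle ((QuotientGroup.eq_one_iff _).1 h3)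
  refine ⟨N, _, Or.inr hN, pl_of_d2 (H29.d2_of_qw (qw_of (Or.inl hS)) _
    (QuotientGroup.mk'_surjective N) (by
      rw [q.map_center, QuotientGroup.ker_mk']; exact zpowers_le_of_mem zN)) hO (fun e => hns (hs e))
    (v := j) (orderOf_two_of_mul_self (fun e => ?_) (by rw [← QuotientGroup.mk_mul, jj]; rfl))
    (fun y hy => ⟨y, 1, k4 y hy, one_pow _, (mul_one _).symm⟩) fun x b hx _ _ x3 _ => Or.inl ?_⟩
  · exact (hm j ((QuotientGroup.eq_one_iff _).1 e)).elim (notMem_core j1 jj) (notMem_core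
      (fun e => jz ((eq_inv_of_mul_eq_one_left e).trans q.z_inv)) (mul_self_mul jj q.zz (q.z_comm jS)))
  · have := k4 x hx
    rwa [pow_succ, x3, one_mul] at this

theorem pc_one (hns : ¬ Group.IsSolvable G) {j : G} (hj : j ∈ A) (oj : orderOf j = 2)
    (hu : ∀ e ∈ A, e * e = 1 → e = 1 ∨ e = j) : PC G := by
  obtain ⟨t, ht, htA⟩ := h.out
  have t2 := h.sq t ht htA
  have jj := mul_self_of_orderOf_two oj
  by_cases h4 : ∀ x ∈ H, orderOf x ≠ 4
  · have tj := (h.mem_iff hj oj).1 ht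
    obtain ⟨S, hS⟩ := (H9.isPGroup_closure_pair_of_commute jj t2 tj.symm).exists_le_sylow
    have jS : j ∈ S := hS (left_mem_closure_pair j t)
    have tS : t ∈ S := hS (right_mem_closure_pair j t)
    have k : ∀ g ∈ S, g ∈ A → g = 1 ∨ g = j := fun g hg e => hu g e (by
      obtain ⟨n, hn⟩ := S.isPGroup' ⟨g, hg⟩
      by_contra h2
      obtain ⟨m, h5, h6⟩ := exists_sq_mem (V := fun c => c * c = 1) n g
        (by rw [show g ^ 2 ^ n = 1 from Subtype.ext_iff.1 hn, one_mul]) h2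
      exact h4 _ (h.le (pow_mem e m)) (orderOf_eq_four h5 h6))
    have k2 : ∀ g ∈ S, g * j = j * g → g = 1 ∨ g = j ∨ g = t ∨ g = j * t := fun g hg e => by
      by_cases e' : g ∈ A
      · exact (k g hg e').imp_right Or.inl
      · rcases k _ (mul_mem hg tS) (h.mul_mem' ((h.mem_iff hj oj).2 e) ht e' htA) with e | e
        · exact Or.inr (Or.inr (Or.inl ((eq_inv_of_mul_eq_one_left e).trans (inv_eq_of_mul_self t2))))
        · exact Or.inr (Or.inr (Or.inr (by rw [← e, mul_assoc, t2, mul_one])))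
    have t1 : t ≠ 1 := fun e => htA (e ▸ one_mem A)
    have j1 := ne_one_of_orderOf_two oj
    have jt : j ≠ t := fun e => htA (e ▸ hj)
    have hc : Nat.card (centralizer ({⟨j, jS⟩} : Set S)) = 4 := by
      have : (centralizer ({⟨j, jS⟩} : Set S) : Set S) = {1, ⟨j, jS⟩, ⟨t, tS⟩, ⟨j, jS⟩ * ⟨t, tS⟩} :=
        Set.ext fun c => ⟨fun e => (k2 c c.2 (congrArg Subtype.val
            (mem_centralizer_singleton_iff.1 e))).imp Subtype.ext
              (Or.imp Subtype.ext (Or.imp Subtype.ext Subtype.ext)), by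
          rintro (rfl | rfl | rfl | rfl) <;> refine mem_centralizer_singleton_iff.2 (Subtype.ext ?_)
          exacts [by simp, rfl, tj, (mul_assoc j t j).trans (congrArg (j * ·) tj)]⟩
      rw [← SetLike.coe_sort_coe, Nat.card_coe_set_eq, this, Set.ncard_insert_of_notMem,
        Set.ncard_insert_of_notMem, Set.ncard_pair]
      · simpa [Subtype.ext_iff] using j1
      · simp [jt, t1, Subtype.ext_iff]
      · simp [j1.symm, t1.symm, Subtype.ext_iff, eq_comm (a := (1 : G)), mul_eq_one_iff_eq_inv,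
          inv_eq_of_mul_self t2, jt]
    rcases Cfsg.Agent.S3224.result S.isPGroup' ⟨j, jS⟩ (by rwa [orderOf_mk]) hc with ⟨n, ⟨e⟩⟩ | e | e
    · exact h.pc_of_d2 hns (.of_sylow_equiv S e) hj oj hu
    · exact h.pc_of_qd hns hj oj hu h4 jS e
    · refine h.pc_of_d2 hns (.of_gens S t2 (h.inv ht htA hj) fun g hg => ?_) hj oj hu
      have : (⟨g, hg⟩ : S) ∈ centralizer ({⟨j, jS⟩} : Set S) :=
        eq_top_of_card_eq _ (hc.trans e.symm) ▸ mem_top _
      rcases k2 g hg (congrArg Subtype.val (mem_centralizer_singleton_iff.1 this)) with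
        e | e | e | e
      exacts [⟨0, Or.inl (by simpa)⟩, ⟨1, Or.inl (by simpa)⟩, ⟨0, Or.inr (by simpa)⟩,
        ⟨1, Or.inr (by simpa)⟩]
  · push Not at h4
    obtain ⟨a, ha, oa⟩ := h4
    obtain ⟨a1, a2⟩ := of_orderOf_eq_four oa
    have aA : a ∈ A := by by_contra e; exact a1 (h.sq a ha e)
    obtain ⟨S, hS, tS⟩ := h.exists_sylow ht htA hj oj fun C hC hA n hn => by
      have := hC ((mem_normalizer_iff.1 hn _).1 (hA a aA 2 (oa ▸ pow_orderOf_eq_one a :)))
      rw [← (hu _ (mul_mem aA aA) a2).resolve_left a1, ← conj_mul]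
      have e : n * a * n⁻¹ ∈ A := by by_contra e; exact a1 (by simpa [conj_mul] using h.sq _ this e)
      exact mul_mem e e
    have hU : UniqInv ↥((S : Subgroup G) ⊓ A) := fun u v u1 v1 u2 v2 => Subtype.ext
      (((hu _ u.2.2 (Subtype.ext_iff.1 u1)).resolve_left fun e => u2 (Subtype.ext e)).trans
        ((hu _ v.2.2 (Subtype.ext_iff.1 v1)).resolve_left fun e => v2 (Subtype.ext e)).symm)
    rcases hU.cyclic_or_quaternion (S.isPGroup'.to_le inf_le_left) with ⟨⟨b, hb⟩⟩ | ⟨n, ⟨e⟩⟩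
    · refine h.pc_of_d2 hns (.of_gens S t2 (h.inv ht htA b.2.2) fun g hg => ?_) hj oj hu
      by_cases e : g ∈ A
      · obtain ⟨i, hi⟩ := hb ⟨g, hg, e⟩
        exact ⟨i, Or.inl (congrArg Subtype.val hi).symm⟩
      · obtain ⟨i, hi⟩ := hb ⟨g * t, mul_mem hg tS, h.mul_mem' (hS hg) ht e htA⟩
        exact ⟨i, Or.inr (by rw [show (b : G) ^ i = g * t from congrArg Subtype.val hi, mul_assoc, t2,
          mul_one])⟩
    · obtain ⟨b, c, h1, -, h2, -, h3⟩ := exists_gens_of_quaternion (by positivity) e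
      have bA := ((h3 b).2 ⟨1, Or.inl (by simp)⟩).2
      rw [h.comm ((h3 c).2 ⟨0, Or.inr (by simp)⟩).2 bA, mul_inv_cancel_right, eq_inv_iff_mul_eq_one,
        ← pow_two, ← orderOf_dvd_iff_pow_eq_one, h1] at h2
      have := Nat.le_of_dvd two_pos h2
      have : 0 < 2 ^ n := by positivity
      omega

end DG

theorem pc_of_dgroup (H A : Subgroup G) (hAH : A < H) (hD : ∀ x ∈ H, x ∉ A → x ^ 2 = 1)
    (h4 : 4 ∣ Nat.card H) (hC : ∀ j ∈ H, orderOf j = 2 → (∀ h ∈ H, h * j = j * h) →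
      centralizer ({j} : Set G) = H) (hns : ¬ Group.IsSolvable G) : PC G := by
  simp only [pow_two] at hD
  by_cases h2 : ∀ x ∈ H, x * x = 1
  · have hc : ∀ x ∈ H, ∀ y ∈ H, x * y = y * x := fun x hx y hy =>
      H73.commute_of_inverts (t := 1) (fun n hn => by rw [inv_eq_of_mul_self (h2 n hn)]; simp) hx hy
    have hC' := fun j hj oj => hC j hj oj fun x hx => hc x hx j hj
    obtain ⟨S, hS⟩ := H73.exists_sylow_eq_of_normalizer_le (p := 2) (C := H)
      (fun x => ⟨1, Subtype.ext (by simpa [pow_two] using h2 x x.2)⟩) fun n hn n2 => by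
        obtain ⟨e, he, eA⟩ := SetLike.exists_of_lt hAH
        have e1 : e ≠ 1 := fun e' => eA (e' ▸ one_mem A)
        have a1 := (mem_normalizer_iff.1 hn _).1 he
        by_cases e2 : e * (n * e * n⁻¹) = 1
        · rw [← hC' e he (orderOf_two_of_mul_self e1 (h2 e he)), mem_centralizer_singleton_iff,
            ← mul_inv_eq_iff_eq_mul, eq_inv_of_mul_eq_one_right e2, inv_eq_of_mul_self (h2 e he)]
        · rw [← hC' _ (mul_mem he a1) (orderOf_two_of_mul_self e2 (h2 _ (mul_mem he a1))),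
            mem_centralizer_singleton_iff, ← mul_inv_eq_iff_eq_mul]
          calc n * (e * (n * e * n⁻¹)) * n⁻¹ = n * e * n⁻¹ * (n ^ 2 * e * (n ^ 2)⁻¹) := by group
            _ = _ := by rw [hc _ n2 e he, mul_inv_cancel_right, hc _ he _ a1]
    refine ⟨_, inferInstance, Or.inl H1.odd_card_oddCore, (pl_of_ac (fun u x y ou hx hy => ?_) hns).2 _
      (QuotientGroup.mk'_surjective _) (by rw [QuotientGroup.ker_mk']; exact H1.odd_card_oddCore)
      H1.pPrimeCore_quotient_pPrimeCore⟩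
    obtain ⟨s, hs, g, hg⟩ := exists_isConj_mem_sylow S (t := u) (k := 1)
      (by rw [pow_one, ← ou, pow_orderOf_eq_one])
    obtain rfl : (g : G) * u * (g : G)⁻¹ = s := mul_inv_eq_iff_eq_mul.2 hg.eq
    have k : ∀ x, x * u = u * x → (g : G) * x * (g : G)⁻¹ ∈ H := fun x hx => by
      rw [← hC' _ (hS.le hs) ((orderOf_conj _ _).trans ou), mem_centralizer_singleton_iff, conj_mul,
        conj_mul, hx]
    simpa [conj_mul] using hc _ (k x hx) _ (k y hy)
  push Not at h2
  obtain ⟨a, ha, a1⟩ := h2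
  have h0 : ∀ e ∈ A, orderOf e = 2 → ∀ x ∈ H, x ∉ A → x * e = e * x := fun e he oe x hx hA =>
    mul_inv_eq_iff_eq_mul.1 ((DG.inv' hAH.le hD hx hA he).trans
      (inv_eq_of_mul_self (mul_self_of_orderOf_two oe)))
  obtain ⟨t, ht, htA⟩ := SetLike.exists_of_lt hAH
  have h : DG H A := ⟨hAH.le, hD, ⟨t, ht, htA⟩, ⟨a, by by_contra e; exact a1 (hD a ha e), a1⟩,
    fun e he oe => hC e (hAH.le he) oe fun x hx => by
      by_cases hA : x ∈ A
      · exact H73.commute_of_inverts (fun _ hn => DG.inv' hAH.le hD ht htA hn) hA he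
      · exact h0 e he oe x hx hA⟩
  obtain ⟨j, oj⟩ := exists_prime_orderOf_dvd_card' (G := A) 2 (by
    rw [← H4.card_mul_relIndex_of_le hAH.le, h.relIndex] at h4; omega)
  rw [← Subgroup.orderOf_coe] at oj
  by_cases hu : ∀ e ∈ A, e * e = 1 → e = 1 ∨ e = j
  · exact h.pc_one hns j.2 oj hu
  · push Not at hu
    obtain ⟨e, he, e2, e1, ej⟩ := hu
    exact h.pc_two hns he j.2 (orderOf_two_of_mul_self e1 e2) oj ej

end H41
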