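import Cfsg.Agent.Lib.GWCor.QGroup
import Cfsg.Agent.Lib.CIT.AC
import Cfsg.Agent.Lib.FGS.PrimeOrd

/-! Recognition of `PSL₂(q)` and `PGL₂(q)` from Gorenstein-Walter and from abelian centralizers. -/

set_option autoImplicit false

namespace H41

open Subgroup Cfsg H29 H67 H64.SL2
open scoped MatrixGroups

/-- `Y` is `PSL₂(q)` or `PGL₂(q)` with `q > 3`. -/
def PL (Y : Type*) [Group Y] : Prop := ∃ (F : Type) (_ : Field F) (_ : Fintype F),
  3 < Fintype.card F ∧ (Nonempty (Y ≃* Matrix.ProjectiveSpecialLinearGroup (Fin 2) F) ∨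
    Nonempty (Y ≃* Matrix.ProjGenLinGroup (Fin 2) F))

theorem pl_of_d2 {Y : Type*} [Group Y] [Finite Y] (hD : D2 Y) (hO : pPrimeCore 2 Y = ⊥)
    (hns : ¬ Group.IsSolvable Y) {v : Y} (hv : orderOf v = 2)
    (h1 : ∀ y, y * v = v * y → ∃ a b, a ^ 4 = 1 ∧ b ^ 4 = 1 ∧ y = a * b)
    (h2 : ∀ x b, x * v = v * x → b * v = v * b → b * x = x * b → x ^ 3 = 1 → b * b = 1 →
      x = 1 ∨ b = 1 ∨ b = v) : PL Y := by
  obtain ⟨L, hL⟩ := hD.md hO hns
  have := hL.normal
  rcases hL.typ with ⟨F, _, _, hF, h3, ⟨e⟩⟩ | ⟨⟨e⟩, rfl⟩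
  · have hF' : Odd (Nat.card F) := by rwa [Nat.card_eq_fintype_card]
    have hφ := autHom_injective L e hL.cent
    let M := (pslInn (Fin 2) F).range.comap (autHom L e)
    have hLM : L ≤ M := fun x hx => by
      obtain ⟨s, hs⟩ := QuotientGroup.mk_surjective (e ⟨x, hx⟩)
      exact ⟨_, (pslInn_toGL s).trans (hs ▸ (autHom_coe L e ⟨x, hx⟩).symm)⟩
    have hinv : ∀ w, w * w = 1 → w ∈ M := fun w hw => by
      by_cases w1 : w = 1
      · exact w1 ▸ one_mem M
      rcases exists_inn_or (two_ne_zero_iff_odd.2 hF') (β := autHom L e w) (by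
        rw [orderOf_injective _ hφ]; exact orderOf_two_of_mul_self w1 hw) with
        ⟨A, hA⟩ | ⟨-, s, t, hp, hs, ht⟩
      · exact ⟨A, hA.symm⟩
      obtain ⟨s, rfl⟩ := e.surjective s
      obtain ⟨t, rfl⟩ := e.surjective t
      have k : ∀ s : L, autHom L e w (e s) = e s → w * s = s * w := fun s hs => by
        rw [autHom_apply] at hs
        exact mul_inv_eq_iff_eq_mul.1 (congrArg Subtype.val (e.injective hs))
      have hp' : IsPair (s : Y) (t : Y) := by
        simpa using IsPair.map hp (L.subtype.comp e.symm.toMonoidHom)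
          (L.subtype_injective.comp e.symm.injective)
      refine hLM ?_
      rcases hD.eq_of_comm hp' (k := 1) (by rw [pow_one, pow_two, hw]) (k s hs) (k t ht) with
        rfl | rfl | rfl | rfl
      exacts [one_mem L, s.2, t.2, mul_mem s.2 t.2]
    have h4 : ∀ a, a ^ 4 = 1 → a ∈ M := fun a ha => by
      obtain ⟨T, hT⟩ := (H9.isPGroup_zpowers_of_pow (p := 2) (a := 2) ha).exists_le_sylow
      rcases hD.cases T.isPGroup' with hc | ⟨b, c, -, hd⟩
      · exact (hns (H78.PrimeOrd.isSolvable_of_cyclic_sylow T hc)).elim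
      obtain ⟨i, rfl | rfl⟩ := (hd.mem a).1 (hT (mem_zpowers _))
      · exact (mul_mem_cancel_right (hinv c hd.bb)).1 (hinv _ (hd.refl_mul_self i))
      · exact hinv _ (hd.refl_mul_self i)
    have hM : (autHom L e).range ≤ (pslInn (Fin 2) F).range := by
      rintro _ ⟨y, rfl⟩
      refine sup_le hLM (fun y hy => ?_) (hL.sup_cent hv ▸ mem_top y)
      obtain ⟨a, b, ha, hb, rfl⟩ := h1 y (mem_centralizer_singleton_iff.1 hy)
      exact mul_mem (h4 a ha) (h4 b hb)
    have c1 : Nat.card (pslInn (Fin 2) F).range = Nat.card L * 2 := by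
      rw [card_range_pslInn (by simp), Nat.card_congr e.toEquiv, mul_comm, H10.card_PGL_two,
        ← H10.card_PSL_two, Nat.gcd_eq_left (Nat.Odd.sub_odd hF' odd_one).two_dvd]
    have c2 : Nat.card (autHom L e).range = Nat.card L * L.index := by
      rw [← Nat.card_congr (MonoidHom.ofInjective hφ).toEquiv, card_mul_index]
    have c3 := card_dvd_of_le hM
    rw [c1, c2, Nat.mul_dvd_mul_iff_left Nat.card_pos, Nat.dvd_prime Nat.prime_two] at c3
    refine ⟨F, inferInstance, inferInstance, h3, c3.imp (fun h => ?_) fun h => ?_⟩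
    · obtain rfl := index_eq_one.1 h
      exact ⟨topEquiv.symm.trans e⟩
    · exact ⟨(MonoidHom.ofInjective hφ).trans ((MulEquiv.subgroupCongr (eq_of_le_of_card_ge hM
        (by rw [c1, c2, h]))).trans ((QuotientGroup.quotientKerEquivRange _).symm.trans
        (QuotientGroup.quotientMulEquivOfEq (ker_pslInn (by simp)))))⟩
  · let f := (topEquiv.symm.trans e).symm
    let b : alternatingGroup (Fin 7) :=
      ⟨Equiv.swap 0 2 * Equiv.swap 1 3, by rw [Equiv.Perm.mem_alternatingGroup]; decide⟩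
    obtain ⟨g, -, rfl⟩ := hL.oneClass (f A7.a1) (mem_top _) v (mem_top _) (by
      rw [MulEquiv.orderOf_eq]
      exact orderOf_two_of_mul_self (by decide) (by decide)) hv
    have := h2 (g * f A7.x1 * g⁻¹) (g * f b * g⁻¹)
    simp only [conj_mul, conj_pow, ← map_mul, ← map_pow, mul_left_inj, mul_right_inj,
      conj_eq_one_iff, EmbeddingLike.apply_eq_iff_eq, EmbeddingLike.map_eq_one_iff] at this
    exact absurd (this (by decide) (by decide) (by decide) (by decide) (by decide)) (by decide)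

theorem eq_one_of_two_pow_of_odd {X : Type*} [Group X] {x : X} {k n : ℕ} (h1 : x ^ 2 ^ k = 1)
    (h2 : Odd n) (h3 : x ^ n = 1) : x = 1 :=
  (pow_eq_one_iff_of_coprime ((Nat.coprime_two_left.2 h2).pow_left _)).1 ⟨h1, h3⟩

theorem pl_of_ac {G : Type*} [Group G] [Finite G] (h : H32.AC G) (hns : ¬ Group.IsSolvable G) :
    (∀ (x : G) (k : ℕ), x ^ 2 ^ k = 1 → x * x = 1) ∧ ∀ {Y : Type*} [Group Y] (f : G →* Y),
      Function.Surjective f → Odd (Nat.card f.ker) → pPrimeCore 2 Y = ⊥ → PL Y := by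
  obtain ⟨a⟩ : Nonempty (Sylow 2 G) := inferInstance
  obtain ⟨F, _, _, _, K, h4, -, hK, ⟨e⟩⟩ := h.classify
    (Nat.not_odd_iff_even.1 fun e => hns (Cfsg.Agent.S0205.result e)) (a := a)
    (fun e => hns (H78.PrimeOrd.isSolvable_of_cyclic_sylow a e))
    fun e => hns (H78.PrimeOrd.isSolvable_of_normal_sylow a e)
  have h2 : (2 : F) = 0 := CharTwo.two_eq_zero
  have hq : Even (Nat.card F) := by
    rw [Nat.card_eq_fintype_card]; exact even_iff_two_dvd.2 (char_dvd_card 2)
  refine ⟨fun x n hx => e.injective ?_, fun f hf hk hO => ?_⟩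
  · have hx' : e x ^ 2 ^ n = 1 := by rw [← map_pow, hx, map_one]
    rw [map_mul, map_one, ← pow_two]
    refine Prod.ext ?_ (by
      rw [Prod.pow_snd, eq_one_of_two_pow_of_odd (congrArg Prod.snd hx') hK pow_card_eq_one', one_pow]
      rfl)
    have h1 : (e x).1 ^ 2 ^ n = 1 := congrArg Prod.fst hx'
    by_cases ht : tr (e x).1 ^ 2 = 4
    · exact proj_injective_of_two_eq_zero h2 (proj_eq_one_iff.2 (pow_char_mem_center 2 ht))
    by_cases hs : Split (e x).1
    · rw [Prod.pow_fst, eq_one_of_two_pow_of_odd h1 (Nat.Even.sub_odd Nat.card_pos hq odd_one)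
        (pow_eq_one_of_split ht hs), one_pow]; rfl
    · rw [Prod.pow_fst, eq_one_of_two_pow_of_odd h1 hq.add_one (pow_eq_one_of_not_split hs), one_pow]
      rfl
  · let φ := (projEquiv h2).toMonoidHom.comp ((MonoidHom.fst _ K).comp e.toMonoidHom)
    have hφ : Function.Surjective φ :=
      (projEquiv h2).surjective.comp (Prod.fst_surjective.comp e.surjective)
    have c1 : Nat.card φ.ker = Nat.card K := by
      have := φ.ker.card_mul_index
      rw [index_ker, MonoidHom.range_eq_top.2 hφ, card_top, Nat.card_congr e.toEquiv, Nat.card_prod,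
        ← Nat.card_congr (projEquiv h2).toEquiv, mul_comm] at this
      exact Nat.eq_of_mul_eq_mul_left Nat.card_pos this
    obtain ⟨e1⟩ := nonempty_quotient_core_equiv f hf hk
    obtain ⟨e2⟩ := nonempty_quotient_core_equiv φ hφ (c1 ▸ hK)
    have := H10.isSimpleGroup_PSL_fin (F := F) 2 le_rfl fun _ => by rwa [Nat.card_eq_fintype_card]
    have c2 : oddCore PSL(2, F) = ⊥ := (IsSimpleGroup.eq_bot_or_eq_top_of_normal _
      inferInstance).resolve_right fun e' => hns (Cfsg.Agent.S0205.result (by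
        have := H1.odd_card_oddCore (G := PSL(2, F))
        rw [e', card_top, ← Nat.card_congr (projEquiv h2).toEquiv] at this
        rw [Nat.card_congr e.toEquiv, Nat.card_prod]
        exact this.mul hK))
    exact ⟨F, _, _, h4, Or.inl ⟨QuotientGroup.quotientBot.symm.trans
      ((QuotientGroup.quotientMulEquivOfEq hO.symm).trans (e1.symm.trans (e2.trans
        ((QuotientGroup.quotientMulEquivOfEq c2).trans QuotientGroup.quotientBot))))⟩⟩

end H41
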